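import Groth.Agent.W7Proj.NegAffine
import Groth.Agent.GrT.TwistMul
import Groth.Agent.ProjMor.ProjSpaceBase
import Groth.Agent.ProjCech.Main
import Groth.Agent.CohFinite.ProjSpace

/-!
`O(d)` on projective space is ample exactly for positive `d`.
-/

set_option autoImplicit false
set_option backward.isDefEq.respectTransparency false
set_option linter.style.haveILetI false

universe u

open CategoryTheory CategoryTheory.Limits AlgebraicGeometry TopologicalSpace Opposite

noncomputable section

namespace Groth.Agent.W7Proj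

variable (n : ℕ) (R : Type u) [CommRing R]

theorem cover_one (x : ProjectiveSpectrum (CohB1.polyGrading n R)) :
    ∃ g ∈ CohB1.polyGrading n R 1, g ∉ x.asHomogeneousIdeal :=
  let ⟨i, hi⟩ := CohFinite.cov_X n R x
  ⟨_, MvPolynomial.isHomogeneous_X R i.down, hi⟩

theorem hasFracGens_all (a : ℤ) : GrT.HasFracGens (CohB1.polyGrading n R) a := by
  simpa using GrT.hasFracGens_of_cover (cover_one n R) a

open Polynomial in
theorem not_isAffine_projSpace [Nontrivial R] (hn : 1 ≤ n) : ¬ IsAffine (CohB1.ProjSpace n R) := by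
  intro hP
  classical
  have := ProjMor.isProper_toSpec n R
  have hfin : IsFinite (CohB1.ProjSpace.toSpec n R) :=
    IsFinite.iff_isProper_and_isAffineHom.mpr ⟨inferInstance, inferInstance⟩
  obtain ⟨m, hm⟩ := Ideal.exists_maximal R
  letI := Ideal.Quotient.field m
  let k := R ⧸ m
  let g : MvPolynomial (Fin (n + 1)) R := MvPolynomial.X 0
  have hg : g ∈ CohB1.polyGrading n R 1 := MvPolynomial.isHomogeneous_X R 0
  let one : Fin (n + 1) := ⟨1, by omega⟩
  let c : R →+* k[X] := Polynomial.C.comp (Ideal.Quotient.mk m)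
  let φ : MvPolynomial (Fin (n + 1)) R →+* k[X] :=
    MvPolynomial.eval₂Hom c (fun i => if i = 0 then 1 else if i = one then Polynomial.X else 0)
  have hφ : φ g = 1 := by simp [φ, g]
  have hone : one ≠ 0 := fun h => absurd (congrArg Fin.val h) (by simp [one])
  have hsurj : Function.Surjective (ProjMor.chartHom hg φ hφ) := fun p => by
    induction p using Polynomial.induction_on' with
    | add p q hp hq =>
      obtain ⟨a, rfl⟩ := hp
      obtain ⟨b, rfl⟩ := hq
      exact ⟨a + b, map_add _ _ _⟩
    | monomial e z =>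
      obtain ⟨r, rfl⟩ := Ideal.Quotient.mk_surjective z
      refine ⟨GrT.deh _ hg (MvPolynomial.C r * MvPolynomial.X one ^ e), ?_⟩
      rw [ProjMor.chartHom_deh]
      simp [φ, c, hone, Polynomial.C_mul_X_pow_eq_monomial]
      rfl
  have hD := ProjLib.isAffineOpen_basicOpen (CohB1.polyGrading n R) hg one_pos
  have hcl : IsClosedImmersion (Spec.map (CommRingCat.ofHom (ProjMor.chartHom hg φ hφ))) :=
    IsClosedImmersion.spec_of_surjective _ hsurj
  let j := Spec.map (CommRingCat.ofHom (ProjMor.chartHom hg φ hφ)) ≫ hD.fromSpec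
  have hinj : Function.Injective j.base :=
    hD.fromSpec.isOpenEmbedding.injective.comp (Scheme.Hom.isClosedEmbedding _).injective
  have hcomp : j ≫ CohB1.ProjSpace.toSpec n R = Spec.map (CommRingCat.ofHom c) := by
    let f : Proj (CohB1.polyGrading n R) ⟶ Spec (CommRingCat.of R) := CohB1.ProjSpace.toSpec n R
    have h2 : f = (Proj (CohB1.polyGrading n R)).toSpecΓ ≫
        Spec.map ((Scheme.ΓSpecIso (CommRingCat.of R)).inv ≫ f.appTop) := by
      rw [Spec.map_comp, ← Category.assoc, ← Scheme.toSpecΓ_naturality, Category.assoc,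
        toSpecΓ_SpecMap_ΓSpecIso_inv, Category.comp_id]
    change j ≫ f = _
    rw [h2]
    simp only [j, Category.assoc]
    rw [← Category.assoc hD.fromSpec, IsAffineOpen.fromSpec_toSpecΓ, ← Spec.map_comp, ← Spec.map_comp]
    congr 1
    refine CommRingCat.hom_ext (RingHom.ext fun r => ?_)
    have hr := ProjMor.res_toGlobal_base (CohB1.polyGrading n R) hg r
    change ProjMor.chartHom hg φ hφ (Groth.Agent.QC.resO _ le_top (ProjUP.toGlobal f r)) = c r
    erw [hr]
    rw [ProjMor.chartHom_deh]
    simp [φ, MvPolynomial.algebraMap_eq]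
  let pm : Spec (CommRingCat.of R) := ⟨m, hm.isPrime⟩
  have hsub : Set.range j.base ⊆ (CohB1.ProjSpace.toSpec n R).base ⁻¹' {pm} := by
    rintro _ ⟨y, rfl⟩
    change (j ≫ CohB1.ProjSpace.toSpec n R).base y = pm
    rw [hcomp]
    refine PrimeSpectrum.ext (Eq.symm (hm.eq_of_le (Ideal.IsPrime.ne_top (Ideal.comap_isPrime c y.asIdeal)) ?_))
    intro r hr
    change c r ∈ y.asIdeal
    change Polynomial.C (Ideal.Quotient.mk m r) ∈ _
    rw [Ideal.Quotient.eq_zero_iff_mem.mpr hr, map_zero]
    exact zero_mem _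
  have : Finite (Spec (CommRingCat.of k[X])) := by
    have hrange := ((CohB1.ProjSpace.toSpec n R).finite_preimage (Set.finite_singleton pm)).subset hsub
    haveI := hrange.to_subtype
    exact Finite.of_injective (Set.rangeFactorization j.base) fun a b hab => hinj (congrArg Subtype.val hab :)
  haveI : Finite (PrimeSpectrum k[X]) := this
  have hdisc : DiscreteTopology (PrimeSpectrum k[X]) := inferInstance
  have hmax := ((PrimeSpectrum.discreteTopology_iff_finite_and_krullDimLE_zero).mp hdisc).2
  have : IsField k[X] := Ring.KrullDimLE.isField_of_isDomain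
  exact Polynomial.not_isField k this

theorem nonempty_powTwist (d : ℤ) : ∀ q : ℕ,
    Nonempty (CohB1.tensorPow (Twist.twistProjSpace n R d) q ≅ Twist.twistProjSpace n R ((q : ℤ) * d))
  | 0 => by
    rw [Nat.cast_zero, zero_mul]
    obtain ⟨e⟩ := GrT.nonempty_twist_zero_iso (𝒜 := CohB1.polyGrading n R)
    exact ⟨e.symm⟩
  | q + 1 => by
    obtain ⟨e⟩ := nonempty_powTwist d q
    obtain ⟨i⟩ := GrT.nonempty_twist_tensor_iso (a := d) (c := ((q + 1 : ℕ) : ℤ) * d) (CohB1.polyGrading n R)
      (hasFracGens_all n R ((q : ℤ) * d)) (by push_cast; ring)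
    exact ⟨PicGrp.tensorModIso e (Iso.refl _) ≪≫ i⟩

theorem isAmple_twist_iff [Nontrivial R] (hn : 1 ≤ n) (d : ℤ) :
    CohB1.IsAmple (Twist.twistProjSpace n R d) ↔ 0 < d := by
  have := ProjMor.isProper_toSpec n R
  haveI : CompactSpace (CohB1.ProjSpace n R) :=
    QuasiCompact.compactSpace_of_compactSpace (CohB1.ProjSpace.toSpec n R)
  haveI : CompactSpace (Proj (CohB1.polyGrading n R)) := ‹CompactSpace (CohB1.ProjSpace n R)›
  constructor
  · intro h
    by_contra hd
    refine not_isAffine_projSpace n R hn (isAffine_of_negative (L' := Twist.twistProjSpace n R (-d)) h ?_ (n₀ := 0) ?_)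
    · exact ((GrT.nonempty_twist_tensor_iso (a := -d) (c := 0) (CohB1.polyGrading n R) (hasFracGens_all n R d)
        (by ring)).some ≪≫ GrT.nonempty_twist_zero_iso.some)
    · intro q _ p hp
      obtain ⟨e⟩ := nonempty_powTwist n R (-d) q
      refine CohQC.hh_subsingleton_of_iso e.symm _ (ProjCech.twist_vanish (R := R) n _ p (by omega) fun h' => ?_)
      have : (0 : ℤ) ≤ (q : ℤ) * -d := mul_nonneg (Int.natCast_nonneg q) (by omega)
      omega
  · intro hd
    obtain ⟨e, rfl⟩ := Int.eq_ofNat_of_zero_le hd.le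
    refine GrT.isAmple_twist_of_cover (by exact_mod_cast hd) fun x => ?_
    obtain ⟨g, hg, hgx⟩ := cover_one n R x
    exact ⟨g ^ e, by simpa using SetLike.pow_mem_graded e hg, GrT.not_mem_pow _ hgx e⟩

end Groth.Agent.W7Proj
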