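import Groth.Agent.W7Proj.EpiTwist
import Groth.Agent.CohQC.Bound
import Groth.Agent.CohQC.Push
import Groth.Agent.DCohLocus.FreeLocus
import Groth.Agent.CohFinite.Linear
import Groth.Agent.LocFree.Basic
import Groth.Agent.QC.Local
import Groth.Agent.NegTwist.Main
import Groth.Agent.ResDesc.Main

/-!
A scheme with an ample module whose negative powers are acyclic is affine.
-/

set_option autoImplicit false
set_option backward.isDefEq.respectTransparency false
set_option linter.style.haveILetI false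

universe u

open CategoryTheory CategoryTheory.Limits AlgebraicGeometry TopologicalSpace Opposite
open Groth.Agent.QC (res resO res_res res_smul resO_resO app_res)
open Groth.Agent.CohFinite (δH δH_eq_zero_iff shortExact_toAb toAbMap)

noncomputable section

namespace Groth.Agent.W7Proj

attribute [local instance] Abelian.hasFiniteBiproducts

variable {X : Scheme.{u}}

theorem isFinLocFree_sigma {Q : X.Modules} (hQ : PicF.IsInvertible Q) (k : ℕ) :
    FlatMod.IsFinLocFree (∐ fun _ : Fin k => Q) := fun x => by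
  obtain ⟨U, hx, ⟨e⟩⟩ := hQ x
  exact ⟨U, k, hx, ⟨PreservesCoproduct.iso (Scheme.Modules.restrictFunctor U.ι) (fun _ : Fin k => Q) ≪≫
    Sigma.mapIso fun _ => e⟩⟩

theorem shortExact_kernel {A B : X.Modules} (f : A ⟶ B) [Epi f] :
    (ShortComplex.mk (kernel.ι f) f (kernel.condition f)).ShortExact :=
  { exact := ShortComplex.exact_of_f_is_kernel _ (kernelIsKernel f), mono_f := inferInstance, epi_g := ‹_› }

theorem subsingleton_hh_sigma {Q : X.Modules} {p : ℕ} (h : Subsingleton (Coh.HH X Q p)) (k : ℕ) :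
    Subsingleton (Coh.HH X (∐ fun _ : Fin k => Q) p) :=
  CohQC.hh_subsingleton_of_iso (biproduct.isoCoproduct fun _ : Fin k => Q) _
    (CohQC.subsingleton_hh_biproduct _ p fun _ => h)

section Negative

variable {L L' : X.Modules} (hL : CohB1.IsAmple L) (hinv : CohB1.tensorMod L L' ≅ Coh.structureModule X)
  {n₀ : ℕ} (h : ∀ n : ℕ, n₀ ≤ n → ∀ p : ℕ, 0 < p → Subsingleton (Coh.HH X (CohB1.tensorPow L' n) p))

include hinv in
theorem nonempty_powInv (n : ℕ) :
    Nonempty (CohB1.tensorMod (CohB1.tensorPow L n) (CohB1.tensorPow L' n) ≅ Coh.structureModule X) := by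
  obtain ⟨a⟩ := TMul.nonempty_powTensorIso (L := L) (L' := L') n
  obtain ⟨b⟩ := TMul.nonempty_powCongr hinv n
  obtain ⟨c⟩ := TMul.nonempty_powUnitIso (X := X) n
  exact ⟨a.symm ≪≫ b ≪≫ c⟩

include hL in
theorem isInvertible_inv (hinv : CohB1.tensorMod L L' ≅ Coh.structureModule X) (n : ℕ) :
    PicF.IsInvertible (CohB1.tensorPow L' n) :=
  TMul.isInvertible_tensorPow (NegTwist.isInvertible_inverse hL.1 hinv) n

include hL hinv h in
theorem vanish_finLocFree {F : X.Modules} (hF : FlatMod.IsFinLocFree F) (p : ℕ) (hp : 0 < p) :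
    Subsingleton (Coh.HH X F p) := by
  haveI := hL.2.1
  haveI := TMul.isSeparated_of_isAmple hL
  obtain ⟨d, hd⟩ := CohQC.exists_bound (X := X) ⊤ (by simpa using isQuasiSeparated_univ (α := X))
    ⊤ isCompact_univ le_rfl
  suffices key : ∀ (j : ℕ) (F : X.Modules), FlatMod.IsFinLocFree F → ∀ p : ℕ, 0 < p → d ≤ p + j →
      Subsingleton (Coh.HH X F p) from key d F hF p hp (Nat.le_add_left _ _)
  intro j
  induction j with
  | zero =>
    intro F hF p hp hdp
    have h1 := hd F (LocFree.isQCoh_of_isFinLocFree hF) p hdp 1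
    rw [Scheme.basicOpen_of_isUnit _ isUnit_one] at h1
    exact (Groth.Agent.SiteCoh.huTerminalEquiv _ CategoryTheory.Limits.isTerminalTop _ _).toEquiv.subsingleton
  | succ j ih =>
    intro F hF p hp hdp
    haveI : F.IsQuasicoherent := LocFree.isQCoh_of_isFinLocFree hF
    obtain ⟨m₀, hm⟩ := TMul.exists_forall_genOn hL (F := F) (LocFree.isFT_of_isFinLocFree hF)
    obtain ⟨ι⟩ := nonempty_powInv hinv (max m₀ n₀)
    have hQ := isInvertible_inv hL hinv (max m₀ n₀)
    obtain ⟨k, φ, hφ⟩ := exists_epi (LocFree.isFT_of_isFinLocFree hF) (TMul.isInvertible_tensorPow hL.1 _) hQ ι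
      (hm _ (le_max_left _ _))
    have hK := ih (kernel φ) (DCohLocus.isFinLocFree_kernel φ (isFinLocFree_sigma hQ k) hF) (p + 1) p.succ_pos
      (by omega)
    have hS := subsingleton_hh_sigma (h _ (le_max_right m₀ n₀) p hp) k
    refine subsingleton_of_forall_eq 0 fun x => ?_
    obtain ⟨y, rfl⟩ := (δH_eq_zero_iff (shortExact_toAb (shortExact_kernel φ)) p x).mp
      (@Subsingleton.elim _ hK _ _)
    exact (congrArg _ (@Subsingleton.elim _ hS y 0)).trans (map_zero _)

include hL hinv h in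
/-- Epimorphisms between finite locally free modules are surjective on global sections. -/
theorem surjective_top {E F : X.Modules} (φ : E ⟶ F) [Epi φ] (hE : FlatMod.IsFinLocFree E)
    (hF : FlatMod.IsFinLocFree F) : Function.Surjective (φ.app ⊤) := by
  intro s
  have hT : IsTerminal (⊤ : X.Opens) := CategoryTheory.Limits.isTerminalTop
  have hK := vanish_finLocFree hL hinv h (DCohLocus.isFinLocFree_kernel φ hE hF) 1 one_pos
  obtain ⟨y, hy⟩ := (δH_eq_zero_iff (shortExact_toAb (shortExact_kernel φ)) 0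
    ((Sheaf.H.equiv₀ _ hT).symm s)).mp (@Subsingleton.elim _ hK _ _)
  refine ⟨Sheaf.H.equiv₀ _ hT y, ?_⟩
  have h2 := Sheaf.H.equiv₀_naturality (hT := hT) (toAbMap φ) y
  exact h2.trans ((congrArg _ hy).trans (AddEquiv.apply_symm_apply _ _))

include hL hinv h in
theorem isAffine_of_negative : IsAffine X := by
  classical
  haveI := hL.2.1
  choose N s hxs hsa using hL.2.2
  obtain ⟨T, hT⟩ := isCompact_univ.elim_finite_subcover
    (fun x : X => ((CohB1.genLocus _ (s x) : X.Opens) : Set X)) (fun x => (CohB1.genLocus _ (s x)).2)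
    (fun x _ => Set.mem_iUnion.mpr ⟨x, hxs x⟩)
  let M := (n₀ + 1) * ∏ x ∈ T, (N x + 1)
  have hsec : ∀ x ∈ T, ∃ t : Coh.structureModule X ⟶ CohB1.tensorPow L M,
      CohB1.genLocus _ t = CohB1.genLocus _ (s x) := by
    intro x hx
    obtain ⟨a, ha⟩ := Finset.dvd_prod_of_mem (fun x => N x + 1) hx
    obtain ⟨m, hm⟩ : ∃ m, (n₀ + 1) * a = m + 1 := Nat.exists_eq_succ_of_ne_zero (by
      rintro h0
      have : 0 < ∏ x ∈ T, (N x + 1) := Finset.prod_pos fun _ _ => Nat.succ_pos _
      rcases Nat.mul_eq_zero.mp h0 with h1 | h1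
      · omega
      · rw [ha, h1, mul_zero] at this; omega)
    have hM : (N x + 1) * (m + 1) = M := by rw [← hm]; simp only [M]; rw [ha]; ring
    obtain ⟨e⟩ := TMul.nonempty_powMulIso L (N x + 1) (m + 1)
    exact ⟨SecTwist.powHom (s x) (m + 1) ≫ (e ≪≫ eqToIso (congrArg (CohB1.tensorPow L) hM)).hom,
      (TMul.genLocus_comp _ _).trans (TMul.genLocus_powHom (TMul.isInvertible_tensorPow hL.1 _) (s x) m)⟩
  choose! t ht using hsec
  let P := CohB1.tensorPow L M
  let Q := CohB1.tensorPow L' M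
  have hP : PicF.IsInvertible P := TMul.isInvertible_tensorPow hL.1 M
  have hQ : PicF.IsInvertible Q := isInvertible_inv hL hinv M
  obtain ⟨ι⟩ : Nonempty (CohB1.tensorMod P Q ≅ Coh.structureModule X) := nonempty_powInv hinv M
  let v : Fin T.card → Γ(P, ⊤) := fun i => TMul.val (t (T.equivFin.symm i)) ⊤
  have hv : ∀ (x : X) (U : X.Opens) (z : Γ(P, U)), x ∈ U → ∃ (W : X.Opens) (hU : W ≤ U), x ∈ W ∧
      res P hU z ∈ Submodule.span Γ(X, W) (Set.range fun i => res P (le_top : W ≤ ⊤) (v i)) := by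
    intro x U z hxU
    obtain ⟨y, hy, hxy⟩ := Set.mem_iUnion₂.mp (hT (Set.mem_univ x))
    have hxt : x ∈ CohB1.genLocus P (t y) := (ht y hy).ge hxy
    obtain ⟨c, hc⟩ := (TMul.isGen_genLocus (t y) _ inf_le_right).2 (res P (inf_le_left : U ⊓ CohB1.genLocus P (t y) ≤ U) z)
    refine ⟨_, inf_le_left, ⟨hxU, hxt⟩, ?_⟩
    rw [← hc]
    refine Submodule.smul_mem _ _ (Submodule.subset_span ⟨T.equivFin ⟨y, hy⟩, ?_⟩)
    change res P le_top (TMul.val (t (T.equivFin.symm (T.equivFin ⟨y, hy⟩))) ⊤) = _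
    rw [Equiv.symm_apply_apply, TMul.res_val, TMul.res_val]
  haveI := epi_leftTm hQ v hv
  obtain ⟨z, hz⟩ := surjective_top hL hinv h ((Sigma.desc fun i => leftTm Q (v i)) ≫ ι.hom)
    (isFinLocFree_sigma hQ _) (ResDesc.isFinLocFree_structureModule X)
    (show Γ(Coh.structureModule X, ⊤) from (1 : Γ(X, ⊤)))
  let pr : Fin T.card → ((∐ fun _ : Fin T.card => Q) ⟶ Q) := fun i =>
    Sigma.desc fun j => if j = i then 𝟙 Q else 0
  let f : Fin T.card → Γ(X, ⊤) := fun i =>
    show Γ(Coh.structureModule X, ⊤) from (leftTm Q (v i) ≫ ι.hom).app ⊤ ((pr i).app ⊤ z)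
  have hone : ∑ i, f i = 1 := by
    have hdec : (Sigma.desc fun i => leftTm Q (v i)) ≫ ι.hom = ∑ i, pr i ≫ (leftTm Q (v i) ≫ ι.hom) := by
      refine Sigma.hom_ext _ _ fun j => ?_
      rw [Sigma.ι_desc_assoc, Preadditive.comp_sum, Finset.sum_eq_single j]
      · rw [Sigma.ι_desc_assoc, if_pos rfl, Category.id_comp]
      · intro i _ hij
        rw [Sigma.ι_desc_assoc, if_neg (Ne.symm hij), zero_comp]
      · exact fun hj => absurd (Finset.mem_univ j) hj
    let ev : ((∐ fun _ : Fin T.card => Q) ⟶ Coh.structureModule X) →+ Γ(Coh.structureModule X, ⊤) :=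
      AddMonoidHom.mk' (fun φ => φ.app ⊤ z) fun _ _ => rfl
    exact ((map_sum ev _ _).symm.trans (congrArg ev hdec).symm).trans hz
  refine isAffine_of_isAffineOpen_basicOpen (Set.range f) (Ideal.eq_top_iff_one _ |>.mpr
    (hone ▸ Submodule.sum_mem _ fun i _ => Submodule.subset_span ⟨i, rfl⟩)) ?_
  rintro _ ⟨i, rfl⟩
  let y : {x // x ∈ T} := T.equivFin.symm i
  have hle : X.basicOpen (f i) ≤ CohB1.genLocus P (t y.1) := by
    intro x hx
    obtain ⟨W₁, g, hxW₁, hg⟩ := TMul.exists_isGen hP x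
    obtain ⟨W₂, e, hxW₂, he⟩ := TMul.exists_isGen hQ x
    let O := W₁ ⊓ W₂
    obtain ⟨c, hc⟩ := (hg O inf_le_left).2 (TMul.val (t y.1) O)
    obtain ⟨b, hb⟩ := (he O inf_le_right).2 (res Q (le_top : O ≤ ⊤) ((pr i).app ⊤ z))
    refine (TMul.mem_genLocus_iff_isUnit (t y.1) (hg.res (inf_le_left : O ≤ W₁)) (c := c) hc.symm ⟨hxW₁, hxW₂⟩).mpr ?_
    let r : Γ(X, O) := show Γ(Coh.structureModule X, O) from
      ι.hom.app O (TMul.tm (res P (inf_le_left : O ≤ W₁) g) (res Q (inf_le_right : O ≤ W₂) e))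
    have hfi : resO X (le_top : O ≤ ⊤) (f i) = c * b * r := by
      change res (Coh.structureModule X) (le_top : O ≤ ⊤)
        (ι.hom.app ⊤ ((leftTm Q (v i)).app ⊤ ((pr i).app ⊤ z))) = (c * b) • _
      rw [app_res, leftTm_app, TMul.res_tm, res_res, ← hb]
      simp only [v, TMul.res_val]
      erw [← hc]
      rw [TMul.smul_tm, TMul.tm_smul, smul_smul, TMul.app_smul]
    have hu : IsUnit (X.presheaf.germ O x ⟨hxW₁, hxW₂⟩ (resO X (le_top : O ≤ ⊤) (f i))) := by
      rw [Scheme.mem_basicOpen_top] at hx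
      simpa [resO] using hx
    rw [hfi, map_mul, map_mul] at hu
    exact isUnit_of_mul_isUnit_left (isUnit_of_mul_isUnit_left hu)
  have hA : IsAffineOpen (CohB1.genLocus P (t y.1)) := (ht y.1 y.2) ▸ hsa y.1
  have heq : X.basicOpen (f i) = X.basicOpen (resO X (le_top : CohB1.genLocus P (t y.1) ≤ ⊤) (f i)) := by
    rw [show resO X (le_top : CohB1.genLocus P (t y.1) ≤ ⊤) (f i) = X.presheaf.map (homOfLE le_top).op (f i) from rfl,
      Scheme.basicOpen_res]
    exact (inf_eq_right.mpr hle).symm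
  rw [heq]
  exact hA.basicOpen _

end Negative

end Groth.Agent.W7Proj
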