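import Groth.Agent.TMul.FTQuot
import Groth.Agent.InvGen.Basic

/-!
Coherent modules as quotients of inverse powers of an ample module.
-/

set_option autoImplicit false
set_option backward.isDefEq.respectTransparency false
set_option linter.style.haveILetI false

universe u

open CategoryTheory CategoryTheory.Limits AlgebraicGeometry TopologicalSpace Opposite
open Groth.Agent.QC (res resO res_res res_smul resO_resO app_res)
open TMul (IsGen tm tm_bijective res_tm)

noncomputable section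

namespace Groth.Agent.W7Proj

variable {X : Scheme.{u}} {G Q : X.Modules}

/-- `q ↦ t ⊗ q`. -/
def leftTm (Q : X.Modules) (t : Γ(G, ⊤)) : Q ⟶ CohB1.tensorMod G Q :=
  ⟨PresheafOfModules.homMk
    { app := fun U => AddCommGrpCat.ofHom
        (AddMonoidHom.mk' (fun q : Γ(Q, U.unop) => tm (res G (le_top : U.unop ≤ ⊤) t) q)
          fun a b => TMul.add_tm _ a b)
      naturality := fun U V f => by
        ext q
        change tm _ (res Q f.unop.le q) = res _ f.unop.le (tm _ q)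
        rw [res_tm, res_res] }
    fun U c q => TMul.tm_smul (show Γ(X, U.unop) from c) _ (show Γ(Q, U.unop) from q)⟩

lemma leftTm_app (t : Γ(G, ⊤)) {U : X.Opens} (q : Γ(Q, U)) :
    (leftTm Q t).app U q = tm (res G (le_top : U ≤ ⊤) t) q := rfl

/-- Finitely many generating sections of `G` present `G ⊗ Q` as a quotient of copies of `Q`. -/
theorem epi_leftTm (hQ : PicF.IsInvertible Q) {k : ℕ} (v : Fin k → Γ(G, ⊤))
    (hv : ∀ (x : X) (U : X.Opens) (t : Γ(G, U)), x ∈ U → ∃ (W : X.Opens) (hU : W ≤ U), x ∈ W ∧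
        res G hU t ∈ Submodule.span Γ(X, W) (Set.range fun i => res G (le_top : W ≤ ⊤) (v i))) :
    Epi (Sigma.desc fun i => leftTm Q (v i)) := by
  refine InvGen.epi_of_locally _ fun U z x hx => ?_
  obtain ⟨W₀, e, hxW₀, he⟩ := TMul.exists_isGen hQ x
  obtain ⟨g, hg⟩ := (tm_bijective he (U ⊓ W₀) inf_le_right).2 (res _ (inf_le_left : U ⊓ W₀ ≤ U) z)
  obtain ⟨W, hW, hxW, hmem⟩ := hv x (U ⊓ W₀) g ⟨hx, hxW₀⟩
  obtain ⟨c, hc⟩ := (Submodule.mem_span_range_iff_exists_fun _).1 hmem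
  refine ⟨W, hW.trans inf_le_left, hxW,
    ∑ i, (Sigma.ι (fun _ : Fin k => Q) i).app W (c i • res Q (hW.trans inf_le_right) e), ?_⟩
  have happ : ∀ (i : Fin k) (q : Γ(Q, W)), (Sigma.desc fun i => leftTm Q (v i)).app W
      ((Sigma.ι (fun _ : Fin k => Q) i).app W q) = (leftTm Q (v i)).app W q := fun i q =>
    congrArg (fun φ : Q ⟶ CohB1.tensorMod G Q => φ.app W q) (Sigma.ι_desc (fun j => leftTm Q (v j)) i)
  rw [map_sum, Finset.sum_congr rfl fun i _ => happ i _]
  simp only [leftTm_app, TMul.tm_smul]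
  have h2 := congrArg (fun y => res (CohB1.tensorMod G Q) hW y) hg
  simp only [res_tm, res_res] at h2
  rw [← h2, ← hc]
  let φ : Γ(G, W) →ₗ[Γ(X, W)] Γ(CohB1.tensorMod G Q, W) :=
    { toFun := fun m => tm m (res Q (hW.trans inf_le_right) e)
      map_add' := fun a b => TMul.tm_add a b _
      map_smul' := fun r m => TMul.smul_tm r m _ }
  change _ = φ (∑ i, c i • res G le_top (v i))
  rw [map_sum]
  simp only [map_smul]
  rfl

/-- Finitely many global sections generating near every point. -/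
theorem exists_generating [CompactSpace X] [hG : G.IsQuasicoherent] (hFT : CohB1.IsFT G)
    (h : ∀ x : X, ∃ D : X.Opens, IsAffineOpen D ∧ x ∈ D ∧ TMul.GenOn G D) :
    ∃ (k : ℕ) (v : Fin k → Γ(G, ⊤)), ∀ (x : X) (U : X.Opens) (t : Γ(G, U)), x ∈ U →
      ∃ (W : X.Opens) (hU : W ≤ U), x ∈ W ∧
        res G hU t ∈ Submodule.span Γ(X, W) (Set.range fun i => res G (le_top : W ≤ ⊤) (v i)) := by
  have hsec : TMul.SecGen G ⊤ := fun x _ U t hxU => by
    obtain ⟨D, hD, hxD, hgen⟩ := h x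
    obtain ⟨f, hf, hxf⟩ := hD.exists_basicOpen_le (V := U) ⟨x, hxU⟩ hxD
    refine ⟨X.basicOpen f, hf, le_top, hxf, ?_⟩
    have hmem := Groth.Agent.QC.mem_span_basicOpen (F := G) hD f hgen (res G hf t)
    rw [← Set.range_comp] at hmem
    refine Submodule.span_mono ?_ hmem
    rintro _ ⟨b, rfl⟩
    exact ⟨b, (res_res G _ _ b).symm⟩
  obtain ⟨T, hT⟩ := TMul.exists_finset_secGen hFT ⊤ isCompact_univ hsec
  refine ⟨T.card, fun i => (T.equivFin.symm i).1, fun x U t hxU => ?_⟩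
  obtain ⟨W, hU, hW, hxW, hmem⟩ := hT x trivial U t hxU
  refine ⟨W, hU, hxW, Submodule.span_mono ?_ hmem⟩
  rintro _ ⟨y, hy, rfl⟩
  exact ⟨T.equivFin ⟨y, hy⟩, by simp⟩

/-- A quotient of copies of `Q`. -/
theorem exists_epi {F P : X.Modules} [CompactSpace X] [hF : F.IsQuasicoherent] (hFT : CohB1.IsFT F)
    (hP : PicF.IsInvertible P) (hQ : PicF.IsInvertible Q) (ι : CohB1.tensorMod P Q ≅ Coh.structureModule X)
    (h : ∀ x : X, ∃ D : X.Opens, IsAffineOpen D ∧ x ∈ D ∧ TMul.GenOn (CohB1.tensorMod F P) D) :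
    ∃ (k : ℕ) (φ : (∐ fun _ : Fin k => Q) ⟶ F), Epi φ := by
  obtain ⟨k, v, hv⟩ := exists_generating (hG := TMul.isQCoh_tensor hP) (TMul.isFT_tensor hP hFT) h
  haveI := epi_leftTm hQ v hv
  let e : CohB1.tensorMod (CohB1.tensorMod F P) Q ≅ F :=
    TMul.assocIso F P Q ≪≫ PicGrp.tensorModIso (Iso.refl F) ι ≪≫ SecTwist.unitorR F
  exact ⟨k, (Sigma.desc fun i => leftTm Q (v i)) ≫ e.hom, epi_comp _ _⟩

end Groth.Agent.W7Proj
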